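import Mathlib

/-!
# Finite domains over the prime field (helper4)

Facts about a finite (a priori non-commutative) domain `R` which is an algebra over `ZMod p`,
and about a finite module over it, phrased without a field instance.
-/

set_option autoImplicit false

namespace Cfsg.Agent.Lib.H4.NF.FinDomain

variable {p : ℕ} [hp : Fact p.Prime] {R : Type*} [Ring R] [IsDomain R] [Finite R]
  [Algebra (ZMod p) R]

theorem comm (x y : R) : x * y = y * x := by
  classical
  haveI := Fintype.ofFinite R
  letI := Fintype.divisionRingOfIsDomain R
  letI : Field R := littleWedderburn R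
  exact mul_comm x y

theorem finrank_pos : 0 < Module.finrank (ZMod p) R := by
  haveI : Module.Finite (ZMod p) R := Module.Finite.of_finite
  exact Module.finrank_pos

theorem card_eq : Nat.card R = p ^ Module.finrank (ZMod p) R := by
  haveI : Module.Finite (ZMod p) R := Module.Finite.of_finite
  rw [Module.natCard_eq_pow_finrank (K := ZMod p) (V := R), Nat.card_zmod]

theorem card_module {M : Type*} [AddCommGroup M] [Module R M] [Finite M] :
    Nat.card M = p ^ (Module.finrank (ZMod p) R * Module.finrank R M) := by
  classical
  haveI := Fintype.ofFinite R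
  letI := Fintype.divisionRingOfIsDomain R
  haveI : Module.Finite R M := Module.Finite.of_finite
  rw [Module.natCard_eq_pow_finrank (K := R) (V := M), card_eq (p := p) (R := R), pow_mul]

theorem card_aut : Nat.card (R ≃ₐ[ZMod p] R) = Module.finrank (ZMod p) R := by
  classical
  haveI := Fintype.ofFinite R
  letI := Fintype.divisionRingOfIsDomain R
  letI : Field R := littleWedderburn R
  exact IsGalois.card_aut_eq_finrank (ZMod p) R

theorem card_dvd_of_injective {G : Type*} [Group G] (f : G →* R) (hf : Function.Injective f) :
    Nat.card G ∣ p ^ Module.finrank (ZMod p) R - 1 := by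
  classical
  haveI := Fintype.ofFinite R
  letI := Fintype.divisionRingOfIsDomain R
  have h1 : Function.Injective f.toHomUnits := by
    intro a b hab
    apply hf
    have := congrArg Units.val hab
    simpa using this
  have h2 := Subgroup.card_dvd_of_injective f.toHomUnits h1
  rwa [Nat.card_units, card_eq (p := p) (R := R)] at h2

theorem exists_gen_of_finrank_one {M : Type*} [AddCommGroup M] [Module R M] [Finite M]
    (h1 : Module.finrank R M = 1) : ∃ m₀ : M, ∀ m : M, ∃ r : R, m = r • m₀ := by
  classical
  haveI := Fintype.ofFinite R
  letI := Fintype.divisionRingOfIsDomain R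
  obtain ⟨v, -, hv⟩ := finrank_eq_one_iff'.mp h1
  exact ⟨v, fun m => by obtain ⟨c, hc⟩ := hv m; exact ⟨c, hc.symm⟩⟩

theorem exists_scalar_of_finrank_one (h1 : Module.finrank (ZMod p) R = 1) (r : R) :
    ∃ z : ZMod p, r = algebraMap (ZMod p) R z := by
  obtain ⟨c, hc⟩ := (finrank_eq_one_iff_of_nonzero' (1 : R) one_ne_zero).mp h1 r
  exact ⟨c, by rw [← hc, Algebra.algebraMap_eq_smul_one]⟩

end Cfsg.Agent.Lib.H4.NF.FinDomain
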