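import Mathlib
import Cfsg.Agent.S0016

/-!
# Groups whose abelian subgroups are cyclic (helper4)
-/

set_option autoImplicit false

namespace Cfsg.Agent.Lib.H4.NF

open Subgroup

/-- every abelian subgroup is cyclic -/
def AbCyc (G : Type*) [Group G] : Prop := ∀ K : Subgroup G, IsMulCommutative K → IsCyclic K

theorem AbCyc.of_injective {G P : Type*} [Group G] [Group P] (h : AbCyc G) (f : P →* G)
    (hf : Function.Injective f) : AbCyc P := by
  intro K hK
  have hc : IsMulCommutative (K.map f) := by
    refine ⟨⟨?_⟩⟩
    rintro ⟨x, hx⟩ ⟨y, hy⟩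
    obtain ⟨x', hx', rfl⟩ := Subgroup.mem_map.mp hx
    obtain ⟨y', hy', rfl⟩ := Subgroup.mem_map.mp hy
    apply Subtype.ext
    show f x' * f y' = f y' * f x'
    rw [← map_mul, ← map_mul]
    congr 1
    have := hK.is_comm.comm (⟨x', hx'⟩ : K) ⟨y', hy'⟩
    exact congrArg Subtype.val this
  have := h _ hc
  exact isCyclic_of_surjective (K.equivMapOfInjective f hf).symm (MulEquiv.surjective _)

theorem AbCyc.subgroup {G : Type*} [Group G] (h : AbCyc G) (B : Subgroup G) : AbCyc B :=
  h.of_injective B.subtype B.subtype_injective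

/-- the closure of a set of pairwise commuting elements is commutative -/
theorem closure_isMulCommutative {G : Type*} [Group G] {S : Set G}
    (hS : ∀ a ∈ S, ∀ b ∈ S, a * b = b * a) : IsMulCommutative (closure S) := by
  rw [← le_centralizer_iff_isMulCommutative, centralizer_closure, closure_le]
  intro a ha
  rw [SetLike.mem_coe, mem_centralizer_iff]
  intro b hb
  exact hS b hb a ha

/-- in a finite cyclic group two subgroups of the same prime order coincide -/
theorem eq_of_card_prime_of_isCyclic {C : Type*} [Group C] [Finite C] [IsCyclic C] {r : ℕ}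
    (hr : r.Prime) (X Y : Subgroup C) (hX : Nat.card X = r) (hY : Nat.card Y = r) : X = Y := by
  classical
  by_contra hne
  haveI := Fintype.ofFinite C
  have hle := IsCyclic.card_pow_eq_one_le (α := C) hr.pos
  -- X ∪ Y lies in the set of solutions of x ^ r = 1
  have hsub : (X : Set C) ∪ (Y : Set C) ⊆ {x : C | x ^ r = 1} := by
    rintro x (hx | hx)
    · have := pow_card_eq_one' (G := X) (x := ⟨x, hx⟩)
      rw [hX] at this
      exact congrArg Subtype.val this
    · have := pow_card_eq_one' (G := Y) (x := ⟨x, hx⟩)
      rw [hY] at this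
      exact congrArg Subtype.val this
  have hXY : (X ⊓ Y : Subgroup C) = ⊥ := by
    have hdvd : Nat.card (X ⊓ Y : Subgroup C) ∣ r := by
      rw [← hX]; exact Subgroup.card_dvd_of_le inf_le_left
    rcases (Nat.dvd_prime hr).mp hdvd with h1 | h1
    · exact Subgroup.card_eq_one.mp h1
    · exfalso
      apply hne
      have e1 : X ⊓ Y = X := Subgroup.eq_of_le_of_card_ge inf_le_left (by rw [h1, hX])
      have e2 : X ⊓ Y = Y := Subgroup.eq_of_le_of_card_ge inf_le_right (by rw [h1, hY])
      rw [← e1]; exact e2
  have hcard : ((X : Set C) ∪ (Y : Set C)).ncard = 2 * r - 1 := by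
    have h1 := Set.ncard_union_add_ncard_inter (X : Set C) (Y : Set C)
    have h2 : ((X : Set C) ∩ (Y : Set C)) = {1} := by
      ext x
      simp only [Set.mem_inter_iff, SetLike.mem_coe, Set.mem_singleton_iff]
      rw [← Subgroup.mem_inf, hXY, Subgroup.mem_bot]
    rw [h2, Set.ncard_singleton] at h1
    have h3 : (X : Set C).ncard = r := by rw [← hX]; rfl
    have h4 : (Y : Set C).ncard = r := by rw [← hY]; rfl
    omega
  have hle2 : ((X : Set C) ∪ (Y : Set C)).ncard ≤ ({x : C | x ^ r = 1} : Set C).ncard :=
    Set.ncard_le_ncard hsub (Set.toFinite _)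
  have h5 : ({x : C | x ^ r = 1} : Set C).ncard = (Finset.univ.filter fun a : C => a ^ r = 1).card := by
    rw [← Set.ncard_coe_finset]
    congr 1
    ext x
    simp
  have := hr.two_le
  omega

/-- uniqueness of the subgroup of order `r` in an `r`-group whose abelian subgroups are cyclic -/
theorem unique_order_p {P : Type*} [Group P] [Finite P] (h : AbCyc P) {r : ℕ} [hr : Fact r.Prime]
    (hP : IsPGroup r P) (X Y : Subgroup P) (hX : Nat.card X = r) (hY : Nat.card Y = r) : X = Y := by
  haveI : Nontrivial P := by
    have : Nontrivial X := by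
      rw [← Finite.one_lt_card_iff_nontrivial, hX]; exact hr.out.one_lt
    obtain ⟨x, y, hxy⟩ := this
    exact ⟨⟨x, y, fun h => hxy (Subtype.ext h)⟩⟩
  -- a central element of order r
  haveI := hP.center_nontrivial
  have hcp : IsPGroup r (center P) := hP.to_subgroup _
  have hdvd : r ∣ Nat.card (center P) := by
    obtain ⟨n, hn⟩ := IsPGroup.iff_card.mp hcp
    have hn0 : n ≠ 0 := by
      intro h0
      rw [h0, pow_zero] at hn
      have := Finite.one_lt_card_iff_nontrivial.mpr (inferInstance : Nontrivial (center P))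
      omega
    rw [hn]; exact dvd_pow_self r hn0
  obtain ⟨z, hz⟩ := exists_prime_orderOf_dvd_card' r hdvd
  have hzc : (z : P) ∈ center P := z.2
  have hzo : orderOf (z : P) = r := by rw [Subgroup.orderOf_coe]; exact hz
  -- every subgroup of order r equals ⟨z⟩
  have key : ∀ X : Subgroup P, Nat.card X = r → X = zpowers (z : P) := by
    intro X hX
    -- X ⊔ ⟨z⟩ is abelian
    have hXc : IsCyclic X := isCyclic_of_prime_card hX
    obtain ⟨⟨g, hgX⟩, hg⟩ := hXc.exists_generator
    have hXeq : X = zpowers g := by
      ext x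
      constructor
      · intro hx
        obtain ⟨k, hk⟩ := Subgroup.mem_zpowers_iff.mp (hg ⟨x, hx⟩)
        rw [Subgroup.mem_zpowers_iff]
        exact ⟨k, by have := congrArg Subtype.val hk; simpa using this⟩
      · intro hx
        obtain ⟨k, hk⟩ := Subgroup.mem_zpowers_iff.mp hx
        rw [← hk]; exact X.zpow_mem hgX k
    let K : Subgroup P := closure {g, (z : P)}
    have hKc : IsMulCommutative K := by
      apply closure_isMulCommutative
      intro a ha b hb
      simp only [Set.mem_insert_iff, Set.mem_singleton_iff] at ha hb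
      rcases ha with rfl | rfl <;> rcases hb with rfl | rfl
      · rfl
      · exact (Subgroup.mem_center_iff.mp hzc a)
      · exact (Subgroup.mem_center_iff.mp hzc b).symm
      · rfl
    haveI := h K hKc
    have hXK : X ≤ K := by
      rw [hXeq, Subgroup.zpowers_le]
      exact Subgroup.subset_closure (by simp)
    have hzK : zpowers (z : P) ≤ K := by
      rw [Subgroup.zpowers_le]
      exact Subgroup.subset_closure (by simp)
    have h1 : Nat.card (X.subgroupOf K) = r := by
      rw [Nat.card_congr (Subgroup.subgroupOfEquivOfLe hXK).toEquiv, hX]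
    have h2 : Nat.card ((zpowers (z : P)).subgroupOf K) = r := by
      rw [Nat.card_congr (Subgroup.subgroupOfEquivOfLe hzK).toEquiv, Nat.card_zpowers, hzo]
    have h3 := eq_of_card_prime_of_isCyclic hr.out _ _ h1 h2
    have := congrArg (Subgroup.map K.subtype) h3
    rwa [Subgroup.subgroupOf_map_subtype, Subgroup.subgroupOf_map_subtype,
      inf_eq_left.mpr hXK, inf_eq_left.mpr hzK] at this
  rw [key X hX, key Y hY]

/-- an `r`-group whose abelian subgroups are cyclic is cyclic or generalized quaternion -/
theorem cyclic_or_quat {P : Type*} [Group P] [Finite P] (h : AbCyc P) {r : ℕ} [hr : Fact r.Prime]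
    (hP : IsPGroup r P) :
    IsCyclic P ∨ (r = 2 ∧ ∃ n : ℕ, Nonempty (P ≃* QuaternionGroup (2 ^ n))) :=
  Cfsg.Agent.S0016.result r hP (unique_order_p h hP)

end Cfsg.Agent.Lib.H4.NF
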