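import Mathlib

/-!
# Automorphisms of the quaternion group of order 8 (helper4)

The order of the automorphism group of a group isomorphic to `QuaternionGroup 2` divides `24`:
it acts freely on the 24 pairs of non-commuting elements of order four.
-/

set_option autoImplicit false

namespace Cfsg.Agent.Lib.H4.NF.QuatAut

open QuaternionGroup

abbrev Q8 := QuaternionGroup 2

/-- the good pairs -/
def good (xy : Q8 × Q8) : Prop :=
  xy.1 ^ 2 ≠ 1 ∧ xy.2 ^ 2 ≠ 1 ∧ xy.2 ≠ xy.1 ∧ xy.2 ≠ xy.1⁻¹

instance : DecidablePred good := fun xy => by unfold good; infer_instance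

theorem card_good : Fintype.card {xy : Q8 × Q8 // good xy} = 24 := by
  decide

theorem gen_of_good : ∀ xy : Q8 × Q8, good xy → ∀ g : Q8, ∃ a : Fin 4, ∃ b : Fin 2,
    g = xy.1 ^ (a : ℕ) * xy.2 ^ (b : ℕ) := by
  decide

/-- a group acting freely on a finite set has order dividing the size of the set -/
theorem card_dvd_of_free {G X : Type*} [Group G] [MulAction G X] [Finite G] [Finite X]
    (hfree : ∀ g : G, ∀ x : X, g • x = x → g = 1) : Nat.card G ∣ Nat.card X := by
  have e := MulAction.selfEquivSigmaOrbits G X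
  have h1 : ∀ ω : MulAction.orbitRel.Quotient G X,
      Nat.card (MulAction.orbit G (Quotient.out ω)) = Nat.card G := by
    intro ω
    have hs : MulAction.stabilizer G (Quotient.out ω) = ⊥ := by
      rw [eq_bot_iff]
      intro g hg
      rw [Subgroup.mem_bot]
      exact hfree g _ (MulAction.mem_stabilizer_iff.mp hg)
    rw [Nat.card_congr (MulAction.orbitEquivQuotientStabilizer G (Quotient.out ω)), hs]
    exact Nat.card_congr (QuotientGroup.quotientBot (G := G)).toEquiv
  haveI : Finite (MulAction.orbitRel.Quotient G X) := Quotient.finite _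
  haveI := Fintype.ofFinite (MulAction.orbitRel.Quotient G X)
  rw [Nat.card_congr e, Nat.card_sigma]
  simp only [h1]
  rw [Finset.sum_const, smul_eq_mul]
  exact dvd_mul_left _ _

/-- the action of the automorphism group on the good pairs -/
instance : MulAction (MulAut Q8) {xy : Q8 × Q8 // good xy} where
  smul φ xy := ⟨(φ xy.1.1, φ xy.1.2), by
    obtain ⟨⟨x, y⟩, h1, h2, h3, h4⟩ := xy
    refine ⟨?_, ?_, ?_, ?_⟩
    · show φ x ^ 2 ≠ 1
      rw [← map_pow]
      intro h
      exact h1 ((map_eq_one_iff φ φ.injective).mp h)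
    · show φ y ^ 2 ≠ 1
      rw [← map_pow]
      intro h
      exact h2 ((map_eq_one_iff φ φ.injective).mp h)
    · show φ y ≠ φ x
      intro h
      exact h3 (φ.injective h)
    · show φ y ≠ (φ x)⁻¹
      rw [← map_inv]
      intro h
      exact h4 (φ.injective h)⟩
  one_smul xy := rfl
  mul_smul φ ψ xy := rfl

theorem smul_def (φ : MulAut Q8) (xy : {xy : Q8 × Q8 // good xy}) :
    ((φ • xy : {xy : Q8 × Q8 // good xy}) : Q8 × Q8) = (φ xy.1.1, φ xy.1.2) := rfl

theorem card_mulAut_Q8_dvd : Nat.card (MulAut Q8) ∣ 24 := by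
  haveI : Finite (MulAut Q8) := by
    apply Finite.of_injective (fun φ : MulAut Q8 => (φ : Q8 → Q8))
    intro φ ψ h
    exact MulEquiv.ext (congrFun h)
  have h := card_dvd_of_free (G := MulAut Q8) (X := {xy : Q8 × Q8 // good xy}) ?_
  · rwa [Nat.card_eq_fintype_card (α := {xy : Q8 × Q8 // good xy}), card_good] at h
  · intro φ xy hfix
    have h1 : φ xy.1.1 = xy.1.1 := congrArg Prod.fst (congrArg Subtype.val hfix)
    have h2 : φ xy.1.2 = xy.1.2 := congrArg Prod.snd (congrArg Subtype.val hfix)
    apply MulEquiv.ext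
    intro g
    obtain ⟨a, b, hg⟩ := gen_of_good xy.1 xy.2 g
    rw [hg, map_mul, map_pow, map_pow, h1, h2]
    rfl

/-- the automorphism group of a group isomorphic to the quaternion group of order `8` has
order dividing `24` -/
theorem card_mulAut_dvd {Q : Type*} [Group Q] (e : Q ≃* Q8) : Nat.card (MulAut Q) ∣ 24 := by
  rw [Nat.card_congr (MulAut.congr e).toEquiv]
  exact card_mulAut_Q8_dvd

end Cfsg.Agent.Lib.H4.NF.QuatAut
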