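import Mathlib

/-!
# The arithmetic of the exceptional near-fields (helper4)
-/

set_option autoImplicit false

namespace Cfsg.Agent.Lib.H4.NF.Arith

theorem pow_three_gt (k : ℕ) (hk : 5 ≤ k) : 24 * k < 3 ^ k := by
  induction k, hk using Nat.le_induction with
  | base => norm_num
  | succ n hn ih => rw [pow_succ]; omega

theorem bounds {x k c : ℕ} (hx : 3 ≤ x) (hc : 2 ≤ c) (hle : x ^ c - 1 ≤ 24 * k * (x - 1)) :
    x + 1 ≤ 24 * k ∧ x ^ (c - 1) ≤ 24 * k := by
  obtain ⟨y, rfl⟩ : ∃ y, x = y + 1 := ⟨x - 1, by omega⟩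
  simp only [Nat.add_sub_cancel] at hle
  constructor
  · have h2 : (y + 1) ^ 2 ≤ (y + 1) ^ c := Nat.pow_le_pow_right (by omega) hc
    have h3 : y * (y + 1 + 1) ≤ y * (24 * k) := by
      have : y * (y + 1 + 1) = (y + 1) ^ 2 - 1 := by
        have : (y + 1) ^ 2 = y * (y + 1 + 1) + 1 := by ring
        omega
      rw [this]
      calc (y + 1) ^ 2 - 1 ≤ (y + 1) ^ c - 1 := Nat.sub_le_sub_right h2 1
        _ ≤ 24 * k * y := hle
        _ = y * (24 * k) := by ring
    exact Nat.le_of_mul_le_mul_left h3 (by omega)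
  · have h3 : y * (y + 1) ^ (c - 1) ≤ y * (24 * k) := by
      have h4 : y * (y + 1) ^ (c - 1) ≤ (y + 1) ^ c - 1 := by
        have h5 : (y + 1) ^ c = (y + 1) * (y + 1) ^ (c - 1) := by
          rw [← pow_succ']
          congr 1
          omega
        have h6 : 1 ≤ (y + 1) ^ (c - 1) := Nat.one_le_pow _ _ (by omega)
        rw [h5, add_mul, one_mul]
        omega
      calc y * (y + 1) ^ (c - 1) ≤ (y + 1) ^ c - 1 := h4
        _ ≤ 24 * k * y := hle
        _ = y * (24 * k) := by ring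
    exact Nat.le_of_mul_le_mul_left h3 (by omega)

theorem key {p k c : ℕ} (hp : p.Prime) (hp3 : 3 ≤ p) (hk : 1 ≤ k) (hc : 2 ≤ c)
    (hdiv : p ^ (k * c) - 1 ∣ 24 * k * (p ^ k - 1)) :
    k = 1 ∧ c = 2 ∧ (p = 3 ∨ p = 5 ∨ p = 7 ∨ p = 11 ∨ p = 23) := by
  have hx3 : 3 ^ k ≤ p ^ k := Nat.pow_le_pow_left hp3 k
  have hxk : 3 ≤ p ^ k := le_trans (by
    calc 3 = 3 ^ 1 := by norm_num
      _ ≤ 3 ^ k := Nat.pow_le_pow_right (by norm_num) hk) hx3
  have hpos : 0 < 24 * k * (p ^ k - 1) := by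
    have : 0 < p ^ k - 1 := by omega
    positivity
  have hle : (p ^ k) ^ c - 1 ≤ 24 * k * (p ^ k - 1) := by
    have := Nat.le_of_dvd hpos hdiv
    rwa [pow_mul] at this
  obtain ⟨h1, h2⟩ := bounds hxk hc hle
  have hk4 : k ≤ 4 := by
    by_contra hcon
    have := pow_three_gt k (by omega)
    omega
  have hc3 : c ≤ 3 := by
    by_contra hcon
    have h3 : (p ^ k) ^ 3 ≤ (p ^ k) ^ (c - 1) := Nat.pow_le_pow_right (by omega) (by omega)
    have h4 : 3 ^ 3 ≤ (p ^ k) ^ 3 := Nat.pow_le_pow_left hxk 3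
    have h5 : (p ^ k) ^ 3 = p ^ k * p ^ k * p ^ k := by ring
    by_cases hk1 : k = 1
    · subst hk1
      omega
    · have hx9 : 9 ≤ p ^ k := le_trans (by
        calc 9 = 3 ^ 2 := by norm_num
          _ ≤ 3 ^ k := Nat.pow_le_pow_right (by norm_num) (by omega)) hx3
      have : 9 * 9 * 9 ≤ p ^ k * p ^ k * p ^ k := Nat.mul_le_mul (Nat.mul_le_mul hx9 hx9) hx9
      omega
  have hp23 : p ≤ 23 := by
    have : p ≤ p ^ k := by
      calc p = p ^ 1 := (pow_one p).symm
        _ ≤ p ^ k := Nat.pow_le_pow_right (by omega) hk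
    by_cases hk1 : k = 1
    · subst hk1
      omega
    · have h6 : p ^ 2 ≤ p ^ k := Nat.pow_le_pow_right (by omega) (by omega)
      by_contra hcon
      have h7 : 24 * 24 ≤ p * p := Nat.mul_le_mul (by omega) (by omega)
      have h8 : p ^ 2 = p * p := by ring
      omega
  clear hx3 hle hpos hxk h1 h2
  interval_cases k <;> interval_cases c <;> interval_cases p <;>
    first
    | omega
    | (exfalso; revert hp; norm_num; done)
    | (exfalso; revert hdiv; norm_num; done)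
    | (refine ⟨rfl, rfl, ?_⟩; norm_num)

end Cfsg.Agent.Lib.H4.NF.Arith
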