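import Mathlib
import Cfsg.Agent.Lib.H4.NF.AbCyc

/-!
# A normal quaternion subgroup (helper4)

In a finite solvable group whose abelian subgroups are cyclic, a normal subgroup `C₁` lying
strictly between a maximal normal abelian subgroup `A` and its centralizer contains a normal
subgroup of the whole group isomorphic to the quaternion group of order `8`.
-/

set_option autoImplicit false

namespace Cfsg.Agent.Lib.H4.NF

open Subgroup

section series

variable {G : Type*} [Group G]

/-- the derived series of a subgroup, inside the group -/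
def dser (C : Subgroup G) : ℕ → Subgroup G
  | 0 => C
  | n + 1 => ⁅dser C n, dser C n⁆

theorem dser_normal (C : Subgroup G) [C.Normal] (n : ℕ) : (dser C n).Normal := by
  induction n with
  | zero => exact ‹C.Normal›
  | succ n ih =>
    haveI := ih
    exact Subgroup.commutator_normal _ _

theorem dser_le_derivedSeries (C : Subgroup G) (n : ℕ) : dser C n ≤ derivedSeries G n := by
  induction n with
  | zero => exact le_top
  | succ n ih => exact Subgroup.commutator_mono ih ih

theorem dser_le (C : Subgroup G) [C.Normal] (n : ℕ) : dser C n ≤ C := by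
  induction n with
  | zero => exact le_refl _
  | succ n ih =>
    haveI := dser_normal C n
    exact (Subgroup.commutator_le_left _ _).trans ih

end series

/-- the generalized quaternion group `QuaternionGroup (2 ^ n)` of class two is `Q8` -/
theorem quat_class_two {n : ℕ}
    (hcl : ∀ u v w : QuaternionGroup (2 ^ n), (u * v * u⁻¹ * v⁻¹) * w = w * (u * v * u⁻¹ * v⁻¹))
    (hna : ∃ u v : QuaternionGroup (2 ^ n), u * v ≠ v * u) : n = 1 := by
  have h := hcl (QuaternionGroup.a 1) (QuaternionGroup.xa 0) (QuaternionGroup.xa 0)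
  have hN : (((2 ^ n : ℕ) : ZMod (2 * 2 ^ n)) + ((2 ^ n : ℕ) : ZMod (2 * 2 ^ n))) = 0 := by
    have : (((2 ^ n : ℕ) : ZMod (2 * 2 ^ n)) + ((2 ^ n : ℕ) : ZMod (2 * 2 ^ n)))
        = ((2 * 2 ^ n : ℕ) : ZMod (2 * 2 ^ n)) := by
      push_cast; ring
    rw [this]
    exact ZMod.natCast_self _
  have hinv1 : (QuaternionGroup.a (1 : ZMod (2 * 2 ^ n)))⁻¹ = QuaternionGroup.a (-1) := by
    rw [inv_eq_iff_mul_eq_one, QuaternionGroup.a_mul_a, add_neg_cancel, QuaternionGroup.a_zero]
  have hinv2 : (QuaternionGroup.xa (0 : ZMod (2 * 2 ^ n)))⁻¹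
      = QuaternionGroup.xa ((2 ^ n : ℕ) : ZMod (2 * 2 ^ n)) := by
    rw [inv_eq_iff_mul_eq_one, QuaternionGroup.xa_mul_xa, sub_zero, hN, QuaternionGroup.a_zero]
  rw [hinv1, hinv2] at h
  simp only [QuaternionGroup.a_mul_xa, QuaternionGroup.xa_mul_a, QuaternionGroup.xa_mul_xa] at h
  have h' := QuaternionGroup.xa.inj h
  -- h' : an equation in ZMod (2 * 2 ^ n) forcing 4 = 0
  have h4 : ((4 : ℕ) : ZMod (2 * 2 ^ n)) = 0 := by
    have e : ((4 : ℕ) : ZMod (2 * 2 ^ n)) = (4 : ZMod (2 * 2 ^ n)) := by norm_cast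
    rw [e]
    linear_combination (-1 : ZMod (2 * 2 ^ n)) * h' - 2 * hN
  rw [ZMod.natCast_eq_zero_iff] at h4
  -- 2 * 2^n ∣ 4 → n ≤ 1
  have hn1 : n ≤ 1 := by
    by_contra hgt
    push Not at hgt
    have : 2 ^ 2 ≤ 2 ^ n := Nat.pow_le_pow_right (by norm_num) hgt
    have := Nat.le_of_dvd (by norm_num) h4
    omega
  rcases Nat.lt_or_ge n 1 with h0 | h1
  · exfalso
    have hn0 : n = 0 := by omega
    subst hn0
    obtain ⟨u, v, huv⟩ := hna
    haveI : IsCyclic (QuaternionGroup (2 ^ 0)) := QuaternionGroup.quaternionGroup_one_isCyclic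
    obtain ⟨g, hg⟩ := IsCyclic.exists_generator (α := QuaternionGroup (2 ^ 0))
    obtain ⟨k, rfl⟩ := Subgroup.mem_zpowers_iff.mp (hg u)
    obtain ⟨l, rfl⟩ := Subgroup.mem_zpowers_iff.mp (hg v)
    exact huv (zpow_mul_comm g k l)
  · omega

/-- a normal quaternion subgroup of order `8` -/
theorem exists_normal_Q8 {G : Type*} [Group G] [Finite G] (h : AbCyc G) [hs : Group.IsSolvable G]
    (A : Subgroup G) [hAn : A.Normal] (hAc : IsMulCommutative A)
    (hmax : ∀ B : Subgroup G, B.Normal → IsMulCommutative B → A ≤ B → B = A)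
    (C₁ : Subgroup G) [hC1n : C₁.Normal] (hA1 : A ≤ C₁) (hne : A ≠ C₁)
    (hC : C₁ ≤ centralizer (A : Set G)) :
    ∃ Q : Subgroup G, Q.Normal ∧ Q ≤ C₁ ∧ Nonempty (Q ≃* QuaternionGroup 2) := by
  classical
  -- step 1: the last term `B` of the derived series of `C₁` not inside `A`
  obtain ⟨N, hN⟩ := hs.solvable
  have hex : ∃ n, dser C₁ n ≤ A := by
    refine ⟨N, ?_⟩
    have := dser_le_derivedSeries C₁ N
    rw [hN] at this
    exact this.trans bot_le
  have hm : dser C₁ (Nat.find hex) ≤ A := Nat.find_spec hex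
  have hm0 : Nat.find hex ≠ 0 := by
    intro h0
    rw [h0] at hm
    exact hne (le_antisymm hA1 hm)
  obtain ⟨k, hk⟩ := Nat.exists_eq_succ_of_ne_zero hm0
  have hkA : ¬ dser C₁ k ≤ A := Nat.find_min hex (by omega)
  obtain ⟨B, hB⟩ : ∃ B, B = dser C₁ k := ⟨_, rfl⟩
  haveI hBn : B.Normal := by rw [hB]; exact dser_normal C₁ k
  have hBC : B ≤ C₁ := by rw [hB]; exact dser_le C₁ k
  have hBB : ⁅B, B⁆ ≤ A := by
    rw [hk] at hm
    rw [hB]; exact hm
  have hBA : ¬ B ≤ A := by rw [hB]; exact hkA
  -- elements of `B` commute with elements of `A`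
  have hcomm : ∀ b ∈ B, ∀ a ∈ A, a * b = b * a := by
    intro b hb a ha
    exact (mem_centralizer_iff.mp (hC (hBC hb)) a ha)
  -- step 2: `B` is not commutative
  have hBnc : ¬ IsMulCommutative B := by
    intro hBc
    have hsup : IsMulCommutative (B ⊔ A : Subgroup G) := by
      rw [← closure_eq B, ← closure_eq A, ← Subgroup.closure_union]
      apply closure_isMulCommutative
      rintro x (hx | hx) y (hy | hy)
      · exact congrArg Subtype.val (hBc.is_comm.comm (⟨x, hx⟩ : B) ⟨y, hy⟩)
      · exact (hcomm x hx y hy).symm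
      · exact hcomm y hy x hx
      · exact congrArg Subtype.val (hAc.is_comm.comm (⟨x, hx⟩ : A) ⟨y, hy⟩)
    have := hmax (B ⊔ A) inferInstance hsup le_sup_right
    exact hBA (this ▸ le_sup_left)
  -- step 3: commutators of `B` are central in `B`
  have hcl2 : ∀ x y z : B, (x * y * x⁻¹ * y⁻¹) * z = z * (x * y * x⁻¹ * y⁻¹) := by
    intro x y z
    apply Subtype.ext
    have hmem : (x : G) * y * (x : G)⁻¹ * (y : G)⁻¹ ∈ A :=
      hBB (Subgroup.commutator_mem_commutator x.2 y.2)
    have := hcomm z z.2 _ hmem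
    simpa using this
  -- `B` is nilpotent
  haveI hnil : Group.IsNilpotent B := by
    rw [Subgroup.nilpotent_iff_lowerCentralSeries]
    refine ⟨2, ?_⟩
    show ⁅⁅(⊤ : Subgroup B), ⊤⁆, ⊤⁆ = ⊥
    rw [Subgroup.commutator_eq_bot_iff_le_centralizer, Subgroup.commutator_le]
    intro x _ y _
    rw [Subgroup.coe_top, Subgroup.centralizer_univ, Subgroup.mem_center_iff]
    intro z
    rw [commutatorElement_def]
    exact (hcl2 x y z).symm
  -- step 4: the Sylow 2-subgroup of `B`
  haveI : Fact (Nat.Prime 2) := ⟨Nat.prime_two⟩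
  obtain ⟨R⟩ : Nonempty (Sylow 2 B) := inferInstance
  haveI hRn : (R : Subgroup B).Normal := inferInstance
  have hAB : AbCyc B := h.subgroup B
  have hRnc : ¬ IsMulCommutative (R : Subgroup B) := by
    intro hRc
    apply hBnc
    -- all Sylow subgroups of `B` are commutative
    have hall : ∀ (r : ℕ) (hr : Fact r.Prime) (P : Sylow r B), ∀ x y : (P : Subgroup B), x * y = y * x := by
      intro r hr P
      have hP : AbCyc (P : Subgroup B) := hAB.subgroup _
      rcases cyclic_or_quat hP P.isPGroup' with hc | ⟨h2, -⟩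
      · intro x y
        obtain ⟨g, hg⟩ := hc.exists_generator
        obtain ⟨k, rfl⟩ := Subgroup.mem_zpowers_iff.mp (hg x)
        obtain ⟨l, rfl⟩ := Subgroup.mem_zpowers_iff.mp (hg y)
        exact zpow_mul_comm g k l
      · subst h2
        haveI := Sylow.unique_of_normal R hRn
        have : P = R := Subsingleton.elim _ _
        subst this
        intro x y
        exact hRc.is_comm.comm x y
    have htfae := (Group.isNilpotent_of_finite_tfae (G := B)).out 0 4
    obtain ⟨e⟩ := htfae.mp hnil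
    refine ⟨⟨fun x y => ?_⟩⟩
    obtain ⟨u, rfl⟩ := e.surjective x
    obtain ⟨v, rfl⟩ := e.surjective y
    rw [← map_mul, ← map_mul]
    congr 1
    funext r P
    exact hall r.1 ⟨Nat.prime_of_mem_primeFactors r.2⟩ P (u r P) (v r P)
  -- step 5: `R` is generalized quaternion
  have hRA : AbCyc (R : Subgroup B) := hAB.subgroup _
  rcases cyclic_or_quat hRA R.isPGroup' with hc | ⟨-, n, ⟨e⟩⟩
  · exfalso
    apply hRnc
    refine ⟨⟨fun x y => ?_⟩⟩
    obtain ⟨g, hg⟩ := hc.exists_generator
    obtain ⟨k, rfl⟩ := Subgroup.mem_zpowers_iff.mp (hg x)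
    obtain ⟨l, rfl⟩ := Subgroup.mem_zpowers_iff.mp (hg y)
    exact zpow_mul_comm g k l
  -- step 6: it has order 8
  have hn1 : n = 1 := by
    apply quat_class_two
    · intro u v w
      obtain ⟨u, rfl⟩ := e.surjective u
      obtain ⟨v, rfl⟩ := e.surjective v
      obtain ⟨w, rfl⟩ := e.surjective w
      rw [← map_inv, ← map_inv, ← map_mul, ← map_mul, ← map_mul, ← map_mul, ← map_mul]
      congr 1
      apply Subtype.ext
      have := hcl2 (u : B) (v : B) (w : B)
      simpa using this
    · by_contra hcon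
      push Not at hcon
      apply hRnc
      refine ⟨⟨fun x y => ?_⟩⟩
      apply e.injective
      rw [map_mul, map_mul]
      exact hcon _ _
  subst hn1
  -- step 7: the subgroup of `G`
  haveI hRchar : (R : Subgroup B).Characteristic := Sylow.characteristic_of_normal R hRn
  refine ⟨(R : Subgroup B).map B.subtype, inferInstance, ?_, ?_⟩
  · rintro x ⟨y, -, rfl⟩
    exact hBC y.2
  · exact ⟨((R : Subgroup B).equivMapOfInjective B.subtype B.subtype_injective).symm.trans e⟩

end Cfsg.Agent.Lib.H4.NF
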