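import Mathlib
import Cfsg.Agent.Lib.H4.NF.NormalQuat
import Cfsg.Agent.Lib.H4.NF.QuatAut

/-!
# The centralizer of a maximal normal abelian subgroup (helper4)

In a finite solvable group whose abelian subgroups are cyclic, let `A` be maximal among the
normal abelian subgroups.  Then `|C_G(A)|` divides `24 * |A|`.
-/

set_option autoImplicit false

namespace Cfsg.Agent.Lib.H4.NF

open Subgroup

/-- in a finite cyclic group the solutions of `y ^ orderOf x = 1` are the powers of `x` -/
theorem mem_zpowers_of_pow_orderOf {C : Type*} [Group C] [Finite C] [IsCyclic C] (x y : C)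
    (hy : y ^ orderOf x = 1) : y ∈ zpowers x := by
  classical
  haveI := Fintype.ofFinite C
  have hpos : 0 < orderOf x := orderOf_pos x
  have hle := IsCyclic.card_pow_eq_one_le (α := C) hpos
  have hsub : (Finset.univ.filter fun a : C => a ∈ zpowers x) ⊆
      (Finset.univ.filter fun a : C => a ^ orderOf x = 1) := by
    intro a ha
    simp only [Finset.mem_filter, Finset.mem_univ, true_and] at ha ⊢
    obtain ⟨k, rfl⟩ := Subgroup.mem_zpowers_iff.mp ha
    rw [← zpow_natCast, ← zpow_mul, mul_comm, zpow_mul, zpow_natCast, pow_orderOf_eq_one, one_zpow]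
  have hcard : (Finset.univ.filter fun a : C => a ∈ zpowers x).card = orderOf x := by
    rw [← Nat.card_zpowers, Nat.card_eq_fintype_card, Fintype.card_subtype]
  have heq := Finset.eq_of_subset_of_card_le hsub (by rw [hcard]; exact hle)
  have hy' : y ∈ Finset.univ.filter fun a : C => a ^ orderOf x = 1 := by simp [hy]
  rw [← heq] at hy'
  simpa using hy'

/-- in a group whose abelian subgroups are cyclic, an element commuting with `x` whose
`orderOf x`-th power is trivial is a power of `x` -/
theorem AbCyc.mem_zpowers {G : Type*} [Group G] [Finite G] (h : AbCyc G) (x y : G)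
    (hxy : x * y = y * x) (hy : y ^ orderOf x = 1) : y ∈ zpowers x := by
  let K : Subgroup G := closure {x, y}
  have hKc : IsMulCommutative K := by
    apply closure_isMulCommutative
    intro a ha b hb
    simp only [Set.mem_insert_iff, Set.mem_singleton_iff] at ha hb
    rcases ha with rfl | rfl <;> rcases hb with rfl | rfl
    · rfl
    · exact hxy
    · exact hxy.symm
    · rfl
  haveI := h K hKc
  have hxK : x ∈ K := Subgroup.subset_closure (by simp)
  have hyK : y ∈ K := Subgroup.subset_closure (by simp)
  have h1 : (⟨y, hyK⟩ : K) ^ orderOf (⟨x, hxK⟩ : K) = 1 := by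
    apply Subtype.ext
    rw [Subgroup.coe_pow, Subgroup.coe_one]
    have : orderOf (⟨x, hxK⟩ : K) = orderOf x := by
      rw [← Subgroup.orderOf_coe]
    rw [this]
    exact hy
  have h2 := mem_zpowers_of_pow_orderOf (⟨x, hxK⟩ : K) ⟨y, hyK⟩ h1
  obtain ⟨k, hk⟩ := Subgroup.mem_zpowers_iff.mp h2
  rw [Subgroup.mem_zpowers_iff]
  refine ⟨k, ?_⟩
  have := congrArg Subtype.val hk
  simpa using this

/-- two normal quaternion subgroups of order `8` cannot centralize each other -/
theorem AbCyc.no_commuting_Q8 {G : Type*} [Group G] [Finite G] (h : AbCyc G)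
    (Q Q' : Subgroup G) (e : Q ≃* QuaternionGroup 2) (e' : Q' ≃* QuaternionGroup 2)
    (hcomm : Q' ≤ centralizer (Q : Set G)) : False := by
  -- an element of order 4 in Q
  set x : G := ((e.symm (QuaternionGroup.a 1) : Q) : G) with hx
  have hxo : orderOf x = 4 := by
    rw [hx, Subgroup.orderOf_coe, MulEquiv.orderOf_eq, QuaternionGroup.orderOf_a_one]
  have hle : Q' ≤ zpowers x := by
    intro y hy
    apply h.mem_zpowers
    · have := hcomm hy
      rw [Subgroup.mem_centralizer_iff] at this
      exact this x (e.symm (QuaternionGroup.a 1)).2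
    · rw [hxo]
      have h4 : ∀ g : QuaternionGroup 2, g ^ 4 = 1 := by decide
      have h5 : (⟨y, hy⟩ : Q') ^ 4 = 1 := by
        apply e'.injective
        rw [map_pow, map_one]
        exact h4 _
      exact congrArg Subtype.val h5
  have hc : ∀ u v : Q', u * v = v * u := by
    intro u v
    apply Subtype.ext
    obtain ⟨k, hk⟩ := Subgroup.mem_zpowers_iff.mp (hle u.2)
    obtain ⟨l, hl⟩ := Subgroup.mem_zpowers_iff.mp (hle v.2)
    rw [Subgroup.coe_mul, Subgroup.coe_mul, ← hk, ← hl]
    exact zpow_mul_comm x k l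
  have := hc (e'.symm (QuaternionGroup.a 1)) (e'.symm (QuaternionGroup.xa 0))
  rw [← map_mul, ← map_mul] at this
  have h2 := e'.symm.injective this
  revert h2
  decide

/-- `|C_G(A)|` divides `24 * |A|` -/
theorem card_centralizer_dvd {G : Type*} [Group G] [Finite G] (h : AbCyc G) [hs : Group.IsSolvable G]
    (A : Subgroup G) [hAn : A.Normal] (hAc : IsMulCommutative A)
    (hmax : ∀ B : Subgroup G, B.Normal → IsMulCommutative B → A ≤ B → B = A)
    (hne : A ≠ centralizer (A : Set G)) :
    8 ∣ Nat.card (centralizer (A : Set G)) ∧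
      Nat.card (centralizer (A : Set G)) ∣ 24 * Nat.card A := by
  have hAC : A ≤ centralizer (A : Set G) := le_centralizer_iff_isMulCommutative.mpr hAc
  obtain ⟨Q, hQn, hQC, ⟨e⟩⟩ := exists_normal_Q8 h A hAc hmax (centralizer (A : Set G)) hAC hne le_rfl
  refine ⟨?_, ?_⟩
  · have h8 : Nat.card Q = 8 := by
      rw [Nat.card_congr e.toEquiv, Nat.card_eq_fintype_card, QuaternionGroup.card]
    rw [← h8]
    exact Subgroup.card_dvd_of_le hQC
  -- the centralizer of `Q` in `C`
  have hD : centralizer (A : Set G) ⊓ centralizer (Q : Set G) = A := by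
    by_contra hDne
    have hAD : A ≤ centralizer (A : Set G) ⊓ centralizer (Q : Set G) := by
      refine le_inf hAC ?_
      rw [Subgroup.le_centralizer_iff]
      exact hQC
    obtain ⟨Q', hQ'n, hQ'D, ⟨e'⟩⟩ := exists_normal_Q8 h A hAc hmax
      (centralizer (A : Set G) ⊓ centralizer (Q : Set G)) hAD (fun h => hDne h.symm) inf_le_left
    exact h.no_commuting_Q8 Q Q' e e' (hQ'D.trans inf_le_right)
  -- the conjugation action of `C` on `Q`
  let φ : centralizer (A : Set G) →* MulAut Q :=
    (MulAut.conjNormal (H := Q)).comp (centralizer (A : Set G)).subtype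
  have hker : φ.ker = A.subgroupOf (centralizer (A : Set G)) := by
    ext c
    rw [MonoidHom.mem_ker, Subgroup.mem_subgroupOf]
    have hmem : (c : G) ∈ A ↔ (c : G) ∈ centralizer (A : Set G) ∧ (c : G) ∈ centralizer (Q : Set G) := by
      rw [← Subgroup.mem_inf, hD]
    rw [hmem]
    constructor
    · intro hc
      refine ⟨c.2, ?_⟩
      rw [Subgroup.mem_centralizer_iff]
      intro q hq
      have h1 := congrArg (fun f : MulAut Q => ((f ⟨q, hq⟩ : Q) : G)) hc
      simp only [φ, MonoidHom.comp_apply, Subgroup.coe_subtype, MulAut.conjNormal_apply,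
        MulAut.one_apply] at h1
      calc q * (c : G) = ((c : G) * q * (c : G)⁻¹) * (c : G) := by rw [h1]
        _ = (c : G) * q := by group
    · rintro ⟨-, hc⟩
      rw [Subgroup.mem_centralizer_iff] at hc
      ext q
      simp only [φ, MonoidHom.comp_apply, Subgroup.coe_subtype, MulAut.conjNormal_apply,
        MulAut.one_apply]
      have h2 := hc q q.2
      calc (c : G) * (q : G) * (c : G)⁻¹ = ((q : G) * (c : G)) * (c : G)⁻¹ := by rw [h2]
        _ = (q : G) := by group
  have h1 : Nat.card (centralizer (A : Set G)) = Nat.card φ.ker * Nat.card φ.range := by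
    rw [mul_comm, ← Subgroup.index_ker φ]
    exact (Subgroup.index_mul_card φ.ker).symm
  have h2 : Nat.card φ.range ∣ 24 :=
    (Subgroup.card_subgroup_dvd_card φ.range).trans (QuatAut.card_mulAut_dvd e)
  have h3 : Nat.card φ.ker = Nat.card A := by
    rw [hker]
    exact Nat.card_congr (Subgroup.subgroupOfEquivOfLe hAC).toEquiv
  rw [h1, h3, mul_comm]
  exact Nat.mul_dvd_mul h2 dvd_rfl

end Cfsg.Agent.Lib.H4.NF
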