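import Mathlib
import Cfsg.Agent.S0684

/-!
# Minimal invariant subspaces of a normal subgroup of a regular linear group (helper4)

`H` is a group of linear maps regular on the non-zero vectors, `C` a normal subgroup and `U` a
minimal non-zero `C`-invariant subspace.  The `H`-translates of `U` form a partial spread: the
stabilizer of `U` is regular on the non-zero vectors of `U`.
-/

set_option autoImplicit false

namespace Cfsg.Agent.Lib.H4.NF.Spread

variable {p : ℕ} [hpf : Fact p.Prime] {V : Type*} [AddCommGroup V] [Module (ZMod p) V]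
  (H : Subgroup (V ≃ₗ[ZMod p] V))

/-- the stabilizer of a subspace -/
def stab (U : Submodule (ZMod p) V) : Subgroup H where
  carrier := {h | ∀ v, v ∈ U ↔ ((h : H) : V ≃ₗ[ZMod p] V) v ∈ U}
  one_mem' := by intro v; simp
  mul_mem' := by
    intro a b ha hb v
    rw [hb v, ha (((b : H) : V ≃ₗ[ZMod p] V) v)]
    simp
  inv_mem' := by
    intro a ha v
    rw [ha (((a⁻¹ : H) : V ≃ₗ[ZMod p] V) v)]
    simp

variable {H}

theorem mem_stab {U : Submodule (ZMod p) V} {h : H} :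
    h ∈ stab H U ↔ ∀ v, v ∈ U ↔ ((h : H) : V ≃ₗ[ZMod p] V) v ∈ U := Iff.rfl

/-- a minimal non-zero invariant subspace -/
structure MinInv (C : Subgroup H) (U : Submodule (ZMod p) V) : Prop where
  ne_bot : U ≠ ⊥
  inv : ∀ c ∈ C, ∀ v ∈ U, ((c : H) : V ≃ₗ[ZMod p] V) v ∈ U
  min : ∀ W' : Submodule (ZMod p) V, W' ≤ U →
    (∀ c ∈ C, ∀ v ∈ W', ((c : H) : V ≃ₗ[ZMod p] V) v ∈ W') → W' = ⊥ ∨ W' = U

variable {C : Subgroup H} {U : Submodule (ZMod p) V}

theorem MinInv.le_stab (hU : MinInv C U) : C ≤ stab H U := by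
  intro c hc
  rw [mem_stab]
  intro v
  constructor
  · exact hU.inv c hc v
  · intro hv
    have := hU.inv c⁻¹ (C.inv_mem hc) _ hv
    simpa using this

theorem MinInv.semi [hCn : C.Normal] (hU : MinInv C U) (h : H) (u : V) (hu : u ∈ U) (hu0 : u ≠ 0)
    (hhu : ((h : H) : V ≃ₗ[ZMod p] V) u ∈ U) :
    ∀ v ∈ U, ((h : H) : V ≃ₗ[ZMod p] V) v ∈ U := by
  set W' : Submodule (ZMod p) V := U ⊓ U.comap (((h : H) : V ≃ₗ[ZMod p] V) : V →ₗ[ZMod p] V) with hW'
  have hinv : ∀ c ∈ C, ∀ v ∈ W', ((c : H) : V ≃ₗ[ZMod p] V) v ∈ W' := by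
    intro c hc v hv
    rw [hW', Submodule.mem_inf, Submodule.mem_comap] at hv ⊢
    refine ⟨hU.inv c hc v hv.1, ?_⟩
    have h1 := hU.inv (h * c * h⁻¹) (hCn.conj_mem c hc h) _ hv.2
    simpa using h1
  have huW : u ∈ W' := by
    rw [hW', Submodule.mem_inf, Submodule.mem_comap]
    exact ⟨hu, hhu⟩
  rcases hU.min W' inf_le_left hinv with h0 | h1
  · rw [h0, Submodule.mem_bot] at huW
    exact absurd huW hu0
  · intro v hv
    rw [← h1, hW', Submodule.mem_inf, Submodule.mem_comap] at hv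
    exact hv.2

/-- the translates of `U` meet trivially -/
theorem MinInv.ti [hCn : C.Normal] (hU : MinInv C U) (h : H) (u : V) (hu : u ∈ U) (hu0 : u ≠ 0)
    (hhu : ((h : H) : V ≃ₗ[ZMod p] V) u ∈ U) : h ∈ stab H U := by
  have h1 := hU.semi h u hu hu0 hhu
  have hne : ((h : H) : V ≃ₗ[ZMod p] V) u ≠ 0 := by
    intro h0
    exact hu0 ((LinearEquiv.map_eq_zero_iff _).1 h0)
  have h2 := hU.semi h⁻¹ _ hhu hne (by simpa using hu)
  rw [mem_stab]
  intro v
  constructor
  · exact h1 v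
  · intro hv
    have := h2 _ hv
    simpa using this

/-- the restriction of an element of the stabilizer -/
def res (U : Submodule (ZMod p) V) (t : stab H U) : Module.End (ZMod p) U :=
  (((t : H) : V ≃ₗ[ZMod p] V) : V →ₗ[ZMod p] V).restrict (fun v hv => (t.2 v).1 hv)

@[simp] theorem res_apply (t : stab H U) (u : U) :
    ((res U t u : U) : V) = ((t : H) : V ≃ₗ[ZMod p] V) (u : V) := rfl

@[simp] theorem res_one : res U (1 : stab H U) = 1 := by
  ext u
  simp

@[simp] theorem res_mul (s t : stab H U) : res U (s * t) = res U s * res U t := by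
  ext u
  simp

theorem res_mul_inv (t : stab H U) : res U t * res U t⁻¹ = 1 := by
  rw [← res_mul, mul_inv_cancel, res_one]

theorem res_inv_mul (t : stab H U) : res U t⁻¹ * res U t = 1 := by
  rw [← res_mul, inv_mul_cancel, res_one]

theorem res_inj (hreg : ∀ v w : V, v ≠ 0 → w ≠ 0 → ∃! h : H, (h : V ≃ₗ[ZMod p] V) v = w)
    (s t : stab H U) (u : U) (hu : u ≠ 0) (h : res U s u = res U t u) : s = t := by
  have h1 : ((s : H) : V ≃ₗ[ZMod p] V) (u : V) = ((t : H) : V ≃ₗ[ZMod p] V) (u : V) :=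
    congrArg Subtype.val h
  have hu' : (u : V) ≠ 0 := fun h0 => hu (Subtype.ext h0)
  have hne : ((t : H) : V ≃ₗ[ZMod p] V) (u : V) ≠ 0 := by
    intro h0
    exact hu' ((LinearEquiv.map_eq_zero_iff _).1 h0)
  obtain ⟨h₀, -, huniq⟩ := hreg _ _ hu' hne
  apply Subtype.ext
  exact (huniq (s : H) h1).trans (huniq (t : H) rfl).symm

/-- the stabilizer of `U` is regular on the non-zero vectors of `U` -/
theorem MinInv.card_stab [Finite V] [hCn : C.Normal] (hU : MinInv C U)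
    (hreg : ∀ v w : V, v ≠ 0 → w ≠ 0 → ∃! h : H, (h : V ≃ₗ[ZMod p] V) v = w) :
    Nat.card (stab H U) = Nat.card U - 1 := by
  obtain ⟨u₀, hu₀U, hu₀⟩ := Submodule.exists_mem_ne_zero_of_ne_bot hU.ne_bot
  rw [← Cfsg.Agent.S0684.card_nonzero (V := U)]
  let f : stab H U → {u : U // u ≠ 0} := fun t =>
    ⟨res U t ⟨u₀, hu₀U⟩, by
      intro h0
      have h1 : ((t : H) : V ≃ₗ[ZMod p] V) u₀ = 0 := congrArg Subtype.val h0
      exact hu₀ ((LinearEquiv.map_eq_zero_iff _).1 h1)⟩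
  have hf : Function.Bijective f := by
    constructor
    · intro a b hab
      have hab' : res U a ⟨u₀, hu₀U⟩ = res U b ⟨u₀, hu₀U⟩ := congrArg Subtype.val hab
      exact res_inj hreg a b ⟨u₀, hu₀U⟩ (fun h0 => hu₀ (congrArg Subtype.val h0)) hab'
    · rintro ⟨⟨w, hwU⟩, hw⟩
      have hw0 : w ≠ 0 := fun h0 => hw (Subtype.ext h0)
      obtain ⟨h₀, hh₀, -⟩ := hreg u₀ w hu₀ hw0
      have hst : h₀ ∈ stab H U := hU.ti h₀ u₀ hu₀U hu₀ (by rw [hh₀]; exact hwU)
      refine ⟨⟨h₀, hst⟩, ?_⟩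
      apply Subtype.ext
      apply Subtype.ext
      exact hh₀
  exact Nat.card_congr (Equiv.ofBijective f hf)

end Cfsg.Agent.Lib.H4.NF.Spread
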