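import Mathlib
import Cfsg.Agent.S0684
import Cfsg.Agent.Lib.H4.NF.Spread
import Cfsg.Agent.Lib.H4.NF.FinDomain

/-!
# The commutant field of a minimal invariant subspace (helper4)

`H` is regular on the non-zero vectors, `C` is a normal non-abelian subgroup, `A ≤ C` is
centralized by `C`, and `U` is a minimal `C`-invariant subspace.  The commutant `E` of `C` on `U`
is a finite field containing `A`; the stabilizer `T` of `U` acts on `E` by conjugation with
kernel inside `C_H(A)`.  Consequently `p ^ (k * c) - 1 ∣ k * |C_H(A)|` where `|E| = p ^ k` and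
`c = dim_E U ≥ 2`.
-/

set_option autoImplicit false

namespace Cfsg.Agent.Lib.H4.NF.FieldK

open Cfsg.Agent.Lib.H4.NF.Spread

variable {p : ℕ} [hpf : Fact p.Prime] {V : Type*} [AddCommGroup V] [Module (ZMod p) V]
  {H : Subgroup (V ≃ₗ[ZMod p] V)}

/-- the commutant of `C` on `U` -/
def commutant (C : Subgroup H) (U : Submodule (ZMod p) V) :
    Subalgebra (ZMod p) (Module.End (ZMod p) U) :=
  Subalgebra.centralizer (ZMod p) {f | ∃ t : stab H U, (t : H) ∈ C ∧ f = res U t}

variable {C : Subgroup H} {U : Submodule (ZMod p) V}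

theorem mem_commutant {f : Module.End (ZMod p) U} :
    f ∈ commutant C U ↔ ∀ t : stab H U, (t : H) ∈ C → res U t * f = f * res U t := by
  unfold commutant
  rw [Subalgebra.mem_centralizer_iff]
  constructor
  · intro h t ht
    exact h _ ⟨t, ht, rfl⟩
  · rintro h g ⟨t, ht, rfl⟩
    exact h t ht

theorem injective_of_mem_commutant (hU : MinInv C U) (f : Module.End (ZMod p) U)
    (hf : f ∈ commutant C U) (hf0 : f ≠ 0) : Function.Injective f := by
  rw [mem_commutant] at hf
  set W' : Submodule (ZMod p) V := (LinearMap.ker f).map U.subtype with hW'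
  have hle : W' ≤ U := Submodule.map_subtype_le _ _
  have hinv : ∀ c ∈ C, ∀ v ∈ W', ((c : H) : V ≃ₗ[ZMod p] V) v ∈ W' := by
    intro c hc v hv
    rw [hW', Submodule.mem_map] at hv ⊢
    obtain ⟨u, hu, rfl⟩ := hv
    rw [LinearMap.mem_ker] at hu
    let t : stab H U := ⟨c, hU.le_stab hc⟩
    refine ⟨res U t u, ?_, rfl⟩
    rw [LinearMap.mem_ker]
    have h1 := congrArg (fun g : Module.End (ZMod p) U => g u) (hf t hc)
    simp only [Module.End.mul_apply] at h1
    rw [← h1, hu, map_zero]
  rw [← LinearMap.ker_eq_bot]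
  rcases hU.min W' hle hinv with h0 | h1
  · rw [eq_bot_iff]
    intro u hu
    have : (u : V) ∈ W' := by
      rw [hW', Submodule.mem_map]
      exact ⟨u, hu, rfl⟩
    rw [h0, Submodule.mem_bot] at this
    rw [Submodule.mem_bot]
    exact Subtype.ext this
  · exfalso
    apply hf0
    ext u
    have : (u : V) ∈ W' := by rw [h1]; exact u.2
    rw [hW', Submodule.mem_map] at this
    obtain ⟨u', hu', hu'u⟩ := this
    have : u' = u := Subtype.ext hu'u
    rw [this, LinearMap.mem_ker] at hu'
    rw [hu']
    rfl

theorem isDomain_commutant (hU : MinInv C U) : IsDomain (commutant C U) := by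
  obtain ⟨u₀, hu₀U, hu₀⟩ := Submodule.exists_mem_ne_zero_of_ne_bot hU.ne_bot
  haveI : Nontrivial (commutant C U) := by
    refine ⟨⟨0, 1, ?_⟩⟩
    intro h01
    have h1 := congrArg (fun g : commutant C U => ((g : Module.End (ZMod p) U) ⟨u₀, hu₀U⟩ : U)) h01
    simp only [ZeroMemClass.coe_zero, LinearMap.zero_apply, OneMemClass.coe_one,
      Module.End.one_apply] at h1
    exact hu₀ (congrArg Subtype.val h1).symm
  haveI : NoZeroDivisors (commutant C U) := by
    refine ⟨?_⟩
    intro f g hfg
    by_cases hf0 : f = 0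
    · left; exact hf0
    · right
      have hf0' : (f : Module.End (ZMod p) U) ≠ 0 := by
        intro h0
        apply hf0
        exact Subtype.ext h0
      have hinj := injective_of_mem_commutant hU f.1 f.2 hf0'
      apply Subtype.ext
      ext u
      have h1 := congrArg (fun g : commutant C U => ((g : Module.End (ZMod p) U) u : U)) hfg
      simp only [MulMemClass.coe_mul, Module.End.mul_apply, ZeroMemClass.coe_zero,
        LinearMap.zero_apply] at h1
      have h2 : (g : Module.End (ZMod p) U) u = 0 := by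
        apply hinj
        rw [h1, map_zero]
      rw [h2]
      rfl
  exact NoZeroDivisors.to_isDomain _

theorem finite_end [Finite V] : Finite (Module.End (ZMod p) U) :=
  Finite.of_injective (fun f : Module.End (ZMod p) U => (f : U → U)) DFunLike.coe_injective

/-- conjugation preserves the commutant -/
theorem conj_mem [hCn : C.Normal] (t : stab H U) (f : Module.End (ZMod p) U)
    (hf : f ∈ commutant C U) : res U t * f * res U t⁻¹ ∈ commutant C U := by
  rw [mem_commutant] at hf ⊢
  intro s hs
  have hs' : ((t⁻¹ * s * t : stab H U) : H) ∈ C := by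
    have := hCn.conj_mem (s : H) hs ((t : H)⁻¹)
    simpa using this
  have h1 := hf (t⁻¹ * s * t) hs'
  rw [res_mul, res_mul] at h1
  -- res s * (res t * f * res t⁻¹) = res t * (res t⁻¹ * res s * res t * f) * res t⁻¹
  calc res U s * (res U t * f * res U t⁻¹)
      = (res U t * res U t⁻¹) * res U s * (res U t * f * res U t⁻¹) := by
        rw [res_mul_inv, one_mul]
    _ = res U t * (res U t⁻¹ * res U s * res U t * f) * res U t⁻¹ := by
        simp only [mul_assoc]
    _ = res U t * (f * (res U t⁻¹ * res U s * res U t)) * res U t⁻¹ := by rw [h1]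
    _ = res U t * f * res U t⁻¹ * res U s * (res U t * res U t⁻¹) := by
        simp only [mul_assoc]
    _ = res U t * f * res U t⁻¹ * res U s := by rw [res_mul_inv, mul_one]

/-- conjugation by an element of the stabilizer as an algebra automorphism of the commutant -/
def conjAlg [hCn : C.Normal] (t : stab H U) : commutant C U ≃ₐ[ZMod p] commutant C U where
  toFun f := ⟨res U t * f.1 * res U t⁻¹, conj_mem t f.1 f.2⟩
  invFun f := ⟨res U t⁻¹ * f.1 * res U t, by
    have := conj_mem (C := C) t⁻¹ f.1 f.2
    rwa [inv_inv] at this⟩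
  left_inv f := by
    apply Subtype.ext
    show res U t⁻¹ * (res U t * f.1 * res U t⁻¹) * res U t = f.1
    calc res U t⁻¹ * (res U t * f.1 * res U t⁻¹) * res U t
        = (res U t⁻¹ * res U t) * f.1 * (res U t⁻¹ * res U t) := by simp only [mul_assoc]
      _ = f.1 := by rw [res_inv_mul, one_mul, mul_one]
  right_inv f := by
    apply Subtype.ext
    show res U t * (res U t⁻¹ * f.1 * res U t) * res U t⁻¹ = f.1
    calc res U t * (res U t⁻¹ * f.1 * res U t) * res U t⁻¹
        = (res U t * res U t⁻¹) * f.1 * (res U t * res U t⁻¹) := by simp only [mul_assoc]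
      _ = f.1 := by rw [res_mul_inv, one_mul, mul_one]
  map_mul' f g := by
    apply Subtype.ext
    show res U t * (f.1 * g.1) * res U t⁻¹ = (res U t * f.1 * res U t⁻¹) * (res U t * g.1 * res U t⁻¹)
    calc res U t * (f.1 * g.1) * res U t⁻¹
        = res U t * f.1 * 1 * g.1 * res U t⁻¹ := by simp only [mul_assoc, one_mul]
      _ = (res U t * f.1 * res U t⁻¹) * (res U t * g.1 * res U t⁻¹) := by
          rw [← res_inv_mul t]; simp only [mul_assoc]
  map_add' f g := by
    apply Subtype.ext
    show res U t * (f.1 + g.1) * res U t⁻¹ = (res U t * f.1 * res U t⁻¹) + (res U t * g.1 * res U t⁻¹)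
    rw [mul_add, add_mul]
  commutes' r := by
    apply Subtype.ext
    show res U t * (algebraMap (ZMod p) (Module.End (ZMod p) U) r) * res U t⁻¹ =
      algebraMap (ZMod p) (Module.End (ZMod p) U) r
    rw [← Algebra.commutes, mul_assoc, res_mul_inv, mul_one]

theorem conjAlg_apply [hCn : C.Normal] (t : stab H U) (f : commutant C U) :
    ((conjAlg t f : commutant C U) : Module.End (ZMod p) U) = res U t * f.1 * res U t⁻¹ := rfl

/-- the conjugation action as a homomorphism -/
def conjHom [hCn : C.Normal] : stab H U →* (commutant C U ≃ₐ[ZMod p] commutant C U) where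
  toFun := conjAlg
  map_one' := by
    ext f
    rw [conjAlg_apply]
    simp
  map_mul' s t := by
    ext f
    rw [AlgEquiv.mul_apply, conjAlg_apply, conjAlg_apply, conjAlg_apply, mul_inv_rev, res_mul,
      res_mul]
    simp only [mul_assoc]

/-- restrictions of elements centralized by `C` lie in the commutant -/
theorem res_mem_commutant (t : stab H U) (ht : ∀ c ∈ C, c * (t : H) = (t : H) * c) :
    res U t ∈ commutant C U := by
  rw [mem_commutant]
  intro s hs
  rw [← res_mul, ← res_mul]
  congr 1
  apply Subtype.ext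
  exact ht s hs

/-- the main divisibility -/
theorem main [Finite V]
    (hreg : ∀ v w : V, v ≠ 0 → w ≠ 0 → ∃! h : H, (h : V ≃ₗ[ZMod p] V) v = w)
    (v₀ : V) (hv₀ : v₀ ≠ 0)
    (A C : Subgroup H) [hCn : C.Normal] (hAC : A ≤ C)
    (hCA : C ≤ Subgroup.centralizer (A : Set H)) (hCnc : ¬ IsMulCommutative C) :
    ∃ k c : ℕ, 0 < k ∧ 2 ≤ c ∧
      (p ^ (k * c) - 1 ∣ k * Nat.card (Subgroup.centralizer (A : Set H))) ∧
      Nat.card A ∣ p ^ k - 1 ∧
      (k = 1 → ∃ w₀ : V, w₀ ≠ 0 ∧ ∀ a ∈ A, ∃ z : ZMod p,
        ((a : H) : V ≃ₗ[ZMod p] V) w₀ = z • w₀) := by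
  classical
  haveI : Finite H := by
    apply Nat.finite_of_card_ne_zero
    rw [Cfsg.Agent.S0684.card_H H hreg v₀ hv₀]
    have := Finite.one_lt_card_iff_nontrivial.2 (⟨⟨v₀, 0, hv₀⟩⟩ : Nontrivial V)
    omega
  -- a minimal invariant subspace
  obtain ⟨U, hU0, -, hUinv, hUmin⟩ := Cfsg.Agent.S0684.exists_minimal_invariant H C ⊤
    (by
      intro h
      have : v₀ ∈ (⊤ : Submodule (ZMod p) V) := Submodule.mem_top
      rw [h, Submodule.mem_bot] at this
      exact hv₀ this) (fun _ _ _ _ => Submodule.mem_top)
  have hU : MinInv C U := ⟨hU0, hUinv, hUmin⟩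
  obtain ⟨u₀, hu₀U, hu₀⟩ := Submodule.exists_mem_ne_zero_of_ne_bot hU0
  have hu₀' : (⟨u₀, hu₀U⟩ : U) ≠ 0 := fun h0 => hu₀ (congrArg Subtype.val h0)
  haveI : IsDomain (commutant C U) := isDomain_commutant hU
  haveI : Finite (Module.End (ZMod p) U) := finite_end
  haveI : Finite (commutant C U) := Subtype.finite
  set k := Module.finrank (ZMod p) (commutant C U) with hk
  set c := Module.finrank (commutant C U) U with hc
  have hcardU : Nat.card U = p ^ (k * c) := FinDomain.card_module (R := commutant C U) (M := U)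
  have hstab : Nat.card (stab H U) = p ^ (k * c) - 1 := by
    rw [hU.card_stab hreg, hcardU]
  -- the embedding of `A`
  have hAst : A ≤ stab H U := hAC.trans hU.le_stab
  have hAmem : ∀ a : A, res U ⟨a, hAst a.2⟩ ∈ commutant C U := by
    intro a
    apply res_mem_commutant
    intro c' hc'
    have := hCA hc'
    rw [Subgroup.mem_centralizer_iff] at this
    exact (this a a.2).symm
  refine ⟨k, c, FinDomain.finrank_pos, ?_, ?_, ?_, ?_⟩
  · -- 2 ≤ c
    have hc0 : c ≠ 0 := by
      intro h0
      rw [h0, mul_zero, pow_zero] at hcardU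
      have : Nontrivial U := ⟨⟨⟨u₀, hu₀U⟩, 0, hu₀'⟩⟩
      have := Finite.one_lt_card_iff_nontrivial.2 this
      omega
    have hc1 : c ≠ 1 := by
      intro h1
      apply hCnc
      obtain ⟨m₀, hm₀⟩ := FinDomain.exists_gen_of_finrank_one (R := commutant C U) (M := U) h1
      have hm₀0 : m₀ ≠ 0 := by
        intro h0
        obtain ⟨r, hr⟩ := hm₀ ⟨u₀, hu₀U⟩
        rw [h0, smul_zero] at hr
        exact hu₀' hr
      refine ⟨⟨fun s t => ?_⟩⟩
      let s' : stab H U := ⟨s, hU.le_stab s.2⟩
      let t' : stab H U := ⟨t, hU.le_stab t.2⟩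
      obtain ⟨f, hf⟩ := hm₀ (res U s' m₀)
      obtain ⟨g, hg⟩ := hm₀ (res U t' m₀)
      have hfs : ∀ x : U, res U s' (g.1 x) = g.1 (res U s' x) := by
        intro x
        have := congrArg (fun e : Module.End (ZMod p) U => e x) (mem_commutant.mp g.2 s' s.2)
        simpa using this
      have hgt : ∀ x : U, res U t' (f.1 x) = f.1 (res U t' x) := by
        intro x
        have := congrArg (fun e : Module.End (ZMod p) U => e x) (mem_commutant.mp f.2 t' t.2)
        simpa using this
      have hf' : res U s' m₀ = f.1 m₀ := hf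
      have hg' : res U t' m₀ = g.1 m₀ := hg
      have hfg : f * g = g * f := FinDomain.comm f g
      have hfg' : ∀ x : U, f.1 (g.1 x) = g.1 (f.1 x) := by
        intro x
        have := congrArg (fun e : commutant C U => (e : Module.End (ZMod p) U) x) hfg
        simpa using this
      have h2 : res U (s' * t') m₀ = res U (t' * s') m₀ := by
        rw [res_mul, res_mul, Module.End.mul_apply, Module.End.mul_apply, hg', hfs, hf', hgt,
          hg', hfg']
      have h3 := res_inj hreg _ _ m₀ hm₀0 h2
      have h4 : (s : H) * (t : H) = (t : H) * (s : H) := congrArg Subtype.val h3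
      exact Subtype.ext h4
    omega
  · -- the divisibility
    rw [← hstab]
    let ψ : stab H U →* (commutant C U ≃ₐ[ZMod p] commutant C U) := conjHom
    have h1 : Nat.card (stab H U) = Nat.card ψ.ker * Nat.card ψ.range := by
      rw [mul_comm, ← Subgroup.index_ker ψ]
      exact (Subgroup.index_mul_card ψ.ker).symm
    have h2 : Nat.card ψ.range ∣ k := by
      have := Subgroup.card_subgroup_dvd_card ψ.range
      rwa [FinDomain.card_aut (p := p) (R := commutant C U)] at this
    have h3 : Nat.card ψ.ker ∣ Nat.card (Subgroup.centralizer (A : Set H)) := by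
      have hle : ψ.ker.map (stab H U).subtype ≤ Subgroup.centralizer (A : Set H) := by
        rintro _ ⟨t, ht, rfl⟩
        rw [SetLike.mem_coe, MonoidHom.mem_ker] at ht
        rw [Subgroup.mem_centralizer_iff]
        intro a ha
        -- conjugation by `t` fixes `res a`
        have h4 := congrArg (fun e : commutant C U ≃ₐ[ZMod p] commutant C U =>
          ((e ⟨_, hAmem ⟨a, ha⟩⟩ : commutant C U) : Module.End (ZMod p) U)) ht
        simp only [ψ, conjHom, MonoidHom.coe_mk, OneHom.coe_mk, conjAlg_apply,
          AlgEquiv.one_apply] at h4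
        have h5 : res U (t * ⟨a, hAst ha⟩ * t⁻¹) = res U ⟨a, hAst ha⟩ := by
          rw [res_mul, res_mul]; exact h4
        have h6 := res_inj hreg _ _ ⟨u₀, hu₀U⟩ hu₀' (congrArg (fun e : Module.End (ZMod p) U =>
          e ⟨u₀, hu₀U⟩) h5)
        have h7 : (t : H) * a * (t : H)⁻¹ = a := congrArg Subtype.val h6
        calc a * (t : H) = ((t : H) * a * (t : H)⁻¹) * (t : H) := by rw [h7]
          _ = (t : H) * a := by group
      have h5 : Nat.card (ψ.ker.map (stab H U).subtype) = Nat.card ψ.ker :=
        Subgroup.card_map_of_injective (stab H U).subtype_injective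
      rw [← h5]
      exact Subgroup.card_dvd_of_le hle
    rw [h1, mul_comm]
    exact Nat.mul_dvd_mul h2 h3
  · -- |A| divides p ^ k - 1
    let f : A →* commutant C U :=
      { toFun := fun a => ⟨res U ⟨a, hAst a.2⟩, hAmem a⟩
        map_one' := by
          apply Subtype.ext
          show res U ⟨((1 : A) : H), _⟩ = 1
          exact res_one
        map_mul' := by
          intro a b
          apply Subtype.ext
          show res U ⟨((a * b : A) : H), _⟩ = res U ⟨a, hAst a.2⟩ * res U ⟨b, hAst b.2⟩
          rw [← res_mul]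
          rfl }
    have hf : Function.Injective f := by
      intro a b hab
      have h1 : res U ⟨a, hAst a.2⟩ = res U ⟨b, hAst b.2⟩ := congrArg Subtype.val hab
      have h2 := res_inj hreg _ _ ⟨u₀, hu₀U⟩ hu₀' (congrArg (fun e : Module.End (ZMod p) U =>
          e ⟨u₀, hu₀U⟩) h1)
      have h3 : (a : H) = (b : H) := congrArg (fun x : stab H U => (x : H)) h2
      exact Subtype.ext h3
    exact FinDomain.card_dvd_of_injective (p := p) f hf
  · -- eigenvectors when `k = 1`
    intro hk1
    refine ⟨u₀, hu₀, ?_⟩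
    intro a ha
    obtain ⟨z, hz⟩ := FinDomain.exists_scalar_of_finrank_one (p := p) (R := commutant C U) hk1
      ⟨_, hAmem ⟨a, ha⟩⟩
    refine ⟨z, ?_⟩
    have h1 := congrArg (fun e : commutant C U => (((e : Module.End (ZMod p) U) ⟨u₀, hu₀U⟩ : U) : V)) hz
    simp only [res_apply, Subalgebra.coe_algebraMap, Module.algebraMap_end_apply,
      Submodule.coe_smul] at h1
    exact h1

end Cfsg.Agent.Lib.H4.NF.FieldK
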