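import Mathlib
import Cfsg.Agent.S0684
import Cfsg.Agent.S0685
import Cfsg.Agent.Lib.H4.NF.Cent24
import Cfsg.Agent.Lib.H4.NF.FieldK
import Cfsg.Agent.Lib.H4.NF.Arith

/-!
# The solvable exceptional near-fields (helper4)

A solvable linear group over the prime field, regular on the non-zero vectors and without an
irreducible cyclic normal subgroup, acts on `5 ^ 2`, `7 ^ 2`, `11 ^ 2` or `23 ^ 2` vectors.
-/

set_option autoImplicit false

namespace Cfsg.Agent.Lib.H4.NF

open Subgroup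

variable {p : ℕ} [hpf : Fact p.Prime] {V : Type*} [AddCommGroup V] [Module (ZMod p) V]
  {H : Subgroup (V ≃ₗ[ZMod p] V)}

/-- a normal subgroup with a common eigenvector is central -/
theorem central_of_eigen [Finite V]
    (hreg : ∀ v w : V, v ≠ 0 → w ≠ 0 → ∃! h : H, (h : V ≃ₗ[ZMod p] V) v = w)
    (A : Subgroup H) [hAn : A.Normal] (w₀ : V) (hw₀ : w₀ ≠ 0)
    (heig : ∀ a ∈ A, ∃ z : ZMod p, ((a : H) : V ≃ₗ[ZMod p] V) w₀ = z • w₀) :
    ∀ a ∈ A, ∀ h : H, h * a = a * h := by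
  -- every non-zero vector is an eigenvector
  have h1 : ∀ a ∈ A, ∀ v : V, ∃ z : ZMod p, ((a : H) : V ≃ₗ[ZMod p] V) v = z • v := by
    intro a ha v
    by_cases hv : v = 0
    · exact ⟨0, by rw [hv, map_zero, smul_zero]⟩
    obtain ⟨h, hh, -⟩ := hreg w₀ v hw₀ hv
    have hmem : h⁻¹ * a * h ∈ A := by
      have := hAn.conj_mem a ha h⁻¹
      rwa [inv_inv] at this
    obtain ⟨z, hz⟩ := heig _ hmem
    refine ⟨z, ?_⟩
    have h2 : ((h⁻¹ * a * h : H) : V ≃ₗ[ZMod p] V) w₀ =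
        ((h : H) : V ≃ₗ[ZMod p] V).symm (((a : H) : V ≃ₗ[ZMod p] V) v) := by
      rw [← hh]
      simp
    rw [h2] at hz
    have h3 := congrArg ((h : H) : V ≃ₗ[ZMod p] V) hz
    rw [LinearEquiv.apply_symm_apply, map_smul, hh] at h3
    exact h3
  intro a ha h
  have h2 : ∀ v : V, ¬ LinearIndependent (ZMod p)
      ![v, (((a : H) : V ≃ₗ[ZMod p] V) : V →ₗ[ZMod p] V) v] := by
    intro v hli
    obtain ⟨z, hz⟩ := h1 a ha v
    rw [LinearIndependent.pair_iff] at hli
    have h3 := hli z (-1) (by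
      rw [LinearEquiv.coe_coe, hz, neg_smul, one_smul, add_neg_cancel])
    have : (-1 : ZMod p) = 0 := h3.2
    have h4 : (1 : ZMod p) = 0 := by
      have := congrArg Neg.neg this
      simpa using this
    exact one_ne_zero h4
  obtain ⟨z, hz⟩ := LinearMap.exists_eq_smul_id_of_forall_notLinearIndependent h2
  have h3 : ∀ v : V, ((a : H) : V ≃ₗ[ZMod p] V) v = z • v := by
    intro v
    have := congrArg (fun f : V →ₗ[ZMod p] V => f v) hz
    simpa using this
  apply Subtype.ext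
  apply LinearEquiv.ext
  intro v
  show ((h : H) : V ≃ₗ[ZMod p] V) (((a : H) : V ≃ₗ[ZMod p] V) v) =
    ((a : H) : V ≃ₗ[ZMod p] V) (((h : H) : V ≃ₗ[ZMod p] V) v)
  rw [h3, h3, map_smul]

/-- the main theorem -/
theorem degrees [Finite V]
    (hreg : ∀ v w : V, v ≠ 0 → w ≠ 0 → ∃! h : H, (h : V ≃ₗ[ZMod p] V) v = w)
    (hI : ∀ A : Subgroup H, A.Normal → IsCyclic A → ∃ W : Submodule (ZMod p) V,
      W ≠ ⊥ ∧ W ≠ ⊤ ∧ ∀ a ∈ A, ∀ v ∈ W, ((a : H) : V ≃ₗ[ZMod p] V) v ∈ W)
    (hsolv : Group.IsSolvable H) :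
    Nat.card V = 25 ∨ Nat.card V = 49 ∨ Nat.card V = 121 ∨ Nat.card V = 529 := by
  classical
  have hp := hpf.out
  obtain ⟨W₁, hW₁b, hW₁t, -⟩ := hI ⊥ inferInstance inferInstance
  obtain ⟨v₀, -, hv₀⟩ := Submodule.exists_mem_ne_zero_of_ne_bot hW₁b
  have hcardH := Cfsg.Agent.S0684.card_H H hreg v₀ hv₀
  have hcardV := Cfsg.Agent.S0684.card_V_pow (p := p) (V := V)
  haveI : Module.Finite (ZMod p) V := Module.Finite.of_finite
  set n := Module.finrank (ZMod p) V with hn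
  haveI : Finite H := by
    apply Nat.finite_of_card_ne_zero
    rw [hcardH]
    have := Finite.one_lt_card_iff_nontrivial.2 (⟨⟨v₀, 0, hv₀⟩⟩ : Nontrivial V)
    omega
  -- the dimension is at least two
  have hn2 : 2 ≤ n := by
    have h1 : 0 < Module.finrank (ZMod p) W₁ := by
      rw [Module.finrank_pos_iff]
      obtain ⟨w, hw, hw0⟩ := Submodule.exists_mem_ne_zero_of_ne_bot hW₁b
      exact ⟨⟨⟨w, hw⟩, 0, fun h => hw0 (congrArg Subtype.val h)⟩⟩
    have h2 : Module.finrank (ZMod p) W₁ < n := Submodule.finrank_lt hW₁t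
    omega
  have hAbCyc : AbCyc H := fun K hK => Cfsg.Agent.S0684.isCyclic_of_comm H hreg v₀ hv₀ K hK
  -- a maximal normal abelian subgroup
  obtain ⟨A, hA⟩ := exists_maximal_of_wellFoundedGT
    (fun B : Subgroup H => B.Normal ∧ IsMulCommutative B) ⟨⊥, inferInstance, inferInstance⟩
  obtain ⟨⟨hAn, hAc⟩, hAmax'⟩ := hA
  have hAmax : ∀ B : Subgroup H, B.Normal → IsMulCommutative B → A ≤ B → B = A := by
    intro B hBn hBc hAB
    exact le_antisymm (hAmax' ⟨hBn, hBc⟩ hAB) hAB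
  obtain ⟨hlt, hnc⟩ := Cfsg.Agent.S0685.result H hreg hI A hAn hAc hAmax
  obtain ⟨h8, h24⟩ := card_centralizer_dvd hAbCyc A hAc hAmax hlt.ne
  obtain ⟨k, c, hk, hc, hdiv, hAk, heig⟩ :=
    FieldK.main hreg v₀ hv₀ A (centralizer (A : Set H)) hlt.le le_rfl hnc
  -- `p` is odd
  have hp3 : 3 ≤ p := by
    have h2 : p ≠ 2 := by
      intro h2
      have h3 : 8 ∣ Nat.card H := h8.trans (Subgroup.card_subgroup_dvd_card _)
      rw [hcardH, hcardV, h2] at h3
      have h4 : 2 ∣ 2 ^ n - 1 := (by norm_num : 2 ∣ 8).trans h3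
      have h5 : 2 ∣ 2 ^ n := dvd_pow_self 2 (by omega)
      have h6 : 1 ≤ 2 ^ n := Nat.one_le_pow _ _ (by norm_num)
      omega
    have := hp.two_le
    omega
  -- `k = 1`
  have hk1 : k = 1 := by
    have h1 : p ^ (k * c) - 1 ∣ 24 * k * (p ^ k - 1) := by
      refine hdiv.trans ?_
      have : k * Nat.card (centralizer (A : Set H)) ∣ k * (24 * (p ^ k - 1)) :=
        Nat.mul_dvd_mul dvd_rfl (h24.trans (Nat.mul_dvd_mul dvd_rfl hAk))
      refine this.trans ?_
      rw [← mul_assoc, mul_comm k 24]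
    exact (Arith.key hp hp3 hk hc h1).1
  obtain ⟨w₀, hw₀, hw₀eig⟩ := heig hk1
  have hcentral := central_of_eigen hreg A w₀ hw₀ hw₀eig
  have hCtop : centralizer (A : Set H) = ⊤ := by
    rw [eq_top_iff]
    intro h _
    rw [Subgroup.mem_centralizer_iff]
    intro a ha
    exact (hcentral a ha h).symm
  -- `n = 2`
  have h2 : p ^ (1 * n) - 1 ∣ 24 * 1 * (p ^ 1 - 1) := by
    rw [one_mul, mul_one, ← hcardV, ← hcardH, ← Subgroup.card_top (G := H), ← hCtop]
    rw [hk1] at hAk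
    exact h24.trans (Nat.mul_dvd_mul dvd_rfl hAk)
  obtain ⟨-, hn2', hpcases⟩ := Arith.key hp hp3 le_rfl hn2 h2
  rw [hcardV, hn2']
  rcases hpcases with h3 | h5 | h7 | h11 | h23
  · -- `p = 3` is impossible
    exfalso
    have hH8 : Nat.card H = 8 := by rw [hcardH, hcardV, hn2', h3]; norm_num
    haveI : Fact (Nat.Prime 2) := ⟨Nat.prime_two⟩
    obtain ⟨K, hK⟩ := Sylow.exists_subgroup_card_pow_prime 2 (n := 2) (G := H)
      (by rw [hH8]; norm_num)
    have hidx : K.index = 2 := by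
      have := K.card_mul_index
      rw [hK, hH8] at this
      omega
    have hKn : K.Normal := Subgroup.normal_of_index_eq_two hidx
    have hKc : IsMulCommutative K := IsPGroup.isMulCommutative_of_card_eq_prime_sq hK
    have hKcyc : IsCyclic K := hAbCyc K hKc
    obtain ⟨W, hWb, hWt, hWinv⟩ := hI K hKn hKcyc
    have h1 : 0 < Module.finrank (ZMod p) W := by
      rw [Module.finrank_pos_iff]
      obtain ⟨w, hw, hw0⟩ := Submodule.exists_mem_ne_zero_of_ne_bot hWb
      exact ⟨⟨⟨w, hw⟩, 0, fun h => hw0 (congrArg Subtype.val h)⟩⟩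
    have h2 : Module.finrank (ZMod p) W < n := Submodule.finrank_lt hWt
    have h3' : Module.finrank (ZMod p) W = 1 := by omega
    have := Cfsg.Agent.S0684.card_dvd_of_invariant H hreg K W hWinv
    rw [hK, h3', h3] at this
    revert this
    norm_num
  · left; rw [h5]; norm_num
  · right; left; rw [h7]; norm_num
  · right; right; left; rw [h11]; norm_num
  · right; right; right; rw [h23]; norm_num

end Cfsg.Agent.Lib.H4.NF
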